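import Mathlib.CategoryTheory.Triangulated.SpectralObject
import Mathlib.CategoryTheory.Triangulated.HomologicalFunctor
import Mathlib.Algebra.Homology.SpectralObject.Basic

/-!
# The abelian spectral object obtained by applying a homological functor to a spectral object
of a triangulated category
-/

set_option autoImplicit false
open CategoryTheory Limits Pretriangulated ComposableArrows

namespace Groth.Agent.H5.SpSeqLib

variable {C : Type*} [Category C] [HasZeroObject C] [HasShift C ℤ] [Preadditive C]
  [∀ n : ℤ, (shiftFunctor C n).Additive] [Pretriangulated C]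
  {ι : Type*} [Category ι] {A : Type*} [Category A] [Abelian A]
  (X : Triangulated.SpectralObject C ι) (F : C ⥤ A) [F.IsHomological] [F.ShiftSequence ℤ]

/-- The spectral object in an abelian category obtained by applying a homological functor to a
spectral object in a triangulated category. -/
noncomputable def mapHomological : Abelian.SpectralObject A ι where
  H n := X.ω₁ ⋙ F.shift n
  δ' n₀ n₁ h :=
    { app := fun D => F.homologySequenceδ (X.ω₂.obj D) n₀ n₁ h
      naturality := fun D D' φ =>
        F.homologySequenceδ_naturality (X.ω₂.obj D) (X.ω₂.obj D') (X.ω₂.map φ) n₀ n₁ h }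
  exact₁' n₀ n₁ h D :=
    (F.homologySequence_exact₁ _ (X.ω₂_obj_distinguished D) n₀ n₁ h).exact_toComposableArrows
  exact₂' n D :=
    (F.homologySequence_exact₂ _ (X.ω₂_obj_distinguished D) n).exact_toComposableArrows
  exact₃' n₀ n₁ h D :=
    (F.homologySequence_exact₃ _ (X.ω₂_obj_distinguished D) n₀ n₁ h).exact_toComposableArrows

@[simp]
theorem mapHomological_H (n : ℤ) : (mapHomological X F).H n = X.ω₁ ⋙ F.shift n := rfl

end Groth.Agent.H5.SpSeqLib
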