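import Groth.Agent.H5.SpSeq.Convergence
import Groth.Agent.H5.SpSeq.MapHomological
import Groth.Agent.H42.RDPlus
import Groth.Agent.H42.RDBridge
import Groth.Agent.H45.RDerivedComp

/-!
# The Grothendieck spectral sequence of a composite of functors

Built on Mathlib's spectral objects: `t.spectralObject X` for the canonical t-structure on
`D⁺(C')` and `X = R⁺T(A[0])`, to which we apply the homological functor `H⁰ ∘ R⁺S`.
-/

set_option autoImplicit false
universe w w' v v' u u'

open CategoryTheory Limits Pretriangulated ComposableArrows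
open Groth.Agent.H45.RDP

namespace Groth.Agent.H5.GSS

section Bridge

variable {A : Type u} [Category.{v} A] [Abelian A] [HasDerivedCategory.{w} A] [EnoughInjectives A]
  {B : Type u'} [Category.{v'} B] [Abelian B] [HasDerivedCategory.{w'} B]
  (F : A ⥤ B) [F.Additive]

/-- `Hⁿ(R⁺F(X[0]))` is the classical `RⁿF(X)`. -/
theorem nonempty_rnf_iso (X : A) (n : ℕ) :
    Nonempty ((RnF F (n : ℤ)).obj X ≅ (F.rightDerived n).obj X) := by
  let I := injectiveResolution X
  let Jp : CochainComplex.Plus A := ⟨I.cochainComplex, ⟨0, inferInstance⟩⟩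
  let j : sglP.obj X ⟶ Jp := ObjectProperty.homMk I.ι'
  have : ∀ m, Injective (Jp.obj.X m) :=
    fun m => inferInstanceAs (Injective (I.cochainComplex.X m))
  have : QuasiIso j.hom := inferInstanceAs (QuasiIso I.ι')
  have hQj : IsIso (Qp.map j) := (isIso_Qp_map_iff j).2 inferInstance
  let e1 : F.rightDerivedFunctorPlus.obj (Qp.obj (sglP.obj X)) ≅
      F.rightDerivedFunctorPlus.obj (Qp.obj Jp) :=
    F.rightDerivedFunctorPlus.mapIso (asIso (Qp.map j))
  have h2 : IsIso (F.rightDerivedFunctorPlusUnit.app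
      ((HomotopyCategory.Plus.quotient A).obj Jp)) := inferInstance
  let e2 : Qp.obj (F.mapCochainComplexPlus.obj Jp) ≅ F.rightDerivedFunctorPlus.obj (Qp.obj Jp) :=
    @asIso _ _ _ _
      (F.rightDerivedFunctorPlusUnit.app ((HomotopyCategory.Plus.quotient A).obj Jp)) h2
  let M : CochainComplex B ℤ := (F.mapHomologicalComplex (ComplexShape.up ℤ)).obj I.cochainComplex
  let e3 : (DerivedCategory.Plus.ι ⋙ DerivedCategory.homologyFunctor B n).obj
      (Qp.obj (F.mapCochainComplexPlus.obj Jp)) ≅ M.homology n :=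
    (DerivedCategory.homologyFunctor B n).mapIso (qpIso (F.mapCochainComplexPlus.obj Jp)) ≪≫
      (DerivedCategory.homologyFunctorFactors B n).app M
  let N : CochainComplex B ℕ := (F.mapHomologicalComplex (ComplexShape.up ℕ)).obj I.cocomplex
  let e4 : M ≅ N.extend ComplexShape.embeddingUpNat :=
    @asIso _ _ _ _ (Groth.Agent.H42.RDBridge.mapExtend ComplexShape.embeddingUpNat F I.cocomplex)
      (Groth.Agent.H42.RDBridge.isIso_mapExtend ComplexShape.embeddingUpNat F I.cocomplex)
  let e5 : (N.extend ComplexShape.embeddingUpNat).homology (n : ℤ) ≅ N.homology n :=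
    HomologicalComplex.extendHomologyIso N ComplexShape.embeddingUpNat (j := n) (j' := (n : ℤ)) rfl
  let e6 : (F.rightDerived n).obj X ≅ N.homology n := I.isoRightDerivedObj F n
  exact ⟨(DerivedCategory.Plus.ι ⋙ DerivedCategory.homologyFunctor B n).mapIso (e1 ≪≫ e2.symm) ≪≫
    e3 ≪≫ (HomologicalComplex.homologyFunctor B _ (n : ℤ)).mapIso e4 ≪≫ e5 ≪≫ e6.symm⟩

/-- Classical acyclicity implies `Acy`. -/
theorem acy_of_rightDerived [PreservesFiniteLimits F] (X : A)
    (h : ∀ i : ℕ, 0 < i → IsZero ((F.rightDerived i).obj X)) : Acy F X :=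
  (acy_iff_isIso_unit F X).2
    ((Groth.Agent.H42.RDBridge.isIso_unit_single_iff F X).2 ⟨inferInstance, h⟩)

end Bridge

/-- `HasInjectiveResolutions` implies `EnoughInjectives`. -/
theorem enoughInjectives_of_hasInjectiveResolutions (A : Type u) [Category.{v} A] [Abelian A]
    [HasInjectiveResolutions A] : EnoughInjectives A where
  presentation X := by
    let I := injectiveResolution X
    exact ⟨{ J := I.cocomplex.X 0
             injective := inferInstance
             f := (HomologicalComplex.singleObjXSelf (ComplexShape.up ℕ) 0 X).inv ≫ I.ι.f 0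
             mono := inferInstance }⟩

section Homological

variable {D : Type*} [Category D] [HasZeroObject D] [HasShift D ℤ] [Preadditive D]
  [∀ n : ℤ, (shiftFunctor D n).Additive] [Pretriangulated D]
  {A : Type*} [Category A] [Abelian A] (H : D ⥤ A) [H.IsHomological] [H.ShiftSequence ℤ]
  (T : Triangle D) (hT : T ∈ distTriang D) (n₀ n₁ : ℤ) (h : n₀ + 1 = n₁)

include hT h in
theorem isIso_map_mor₁ (h₀ : IsZero ((H.shift n₀).obj T.obj₃))
    (h₁ : IsZero ((H.shift n₁).obj T.obj₃)) : IsIso ((H.shift n₁).map T.mor₁) := by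
  have : Mono ((H.shift n₁).map T.mor₁) :=
    (H.homologySequence_mono_shift_map_mor₁_iff T hT n₀ n₁ h).2 (h₀.eq_of_src _ _)
  have : Epi ((H.shift n₁).map T.mor₁) :=
    (H.homologySequence_epi_shift_map_mor₁_iff T hT n₁).2 (h₁.eq_of_tgt _ _)
  exact isIso_of_mono_of_epi _

include hT h in
theorem isIso_map_mor₂ (h₀ : IsZero ((H.shift n₀).obj T.obj₁))
    (h₁ : IsZero ((H.shift n₁).obj T.obj₁)) : IsIso ((H.shift n₀).map T.mor₂) := by
  have : Mono ((H.shift n₀).map T.mor₂) :=
    (H.homologySequence_mono_shift_map_mor₂_iff T hT n₀).2 (h₀.eq_of_src _ _)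
  have : Epi ((H.shift n₀).map T.mor₂) :=
    (H.homologySequence_epi_shift_map_mor₂_iff T hT n₀ n₁ h).2 (h₁.eq_of_tgt _ _)
  exact isIso_of_mono_of_epi _

end Homological

section TS

variable {A : Type u} [Category.{v} A] [Abelian A] [HasDerivedCategory.{w} A]

variable (A) in
/-- The canonical t-structure on `D⁺(A)`. -/
noncomputable abbrev tP : Triangulated.TStructure (DerivedCategory.Plus A) :=
  DerivedCategory.Plus.TStructure.t

theorem exists_iso_Qp (Z : DerivedCategory.Plus A) (m : ℤ) [Z.IsGE m] :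
    ∃ (K : CochainComplex.Plus A) (_ : K.obj.IsStrictlyGE m), Nonempty (Z ≅ Qp.obj K) := by
  obtain ⟨K, hK, ⟨e⟩⟩ :=
    DerivedCategory.exists_iso_Q_obj_of_isGE (DerivedCategory.Plus.ι.obj Z) m
  exact ⟨⟨K, ⟨m, hK⟩⟩, hK,
    ⟨DerivedCategory.Plus.ι.preimageIso (e ≪≫ (qpIso ⟨K, ⟨m, hK⟩⟩).symm)⟩⟩

/-- `H^q(τ_{≥q} τ_{<q+1} X) ≅ H^q(X)`. -/
theorem nonempty_homology_trunc_iso (X : DerivedCategory.Plus A) (q : ℤ) :
    Nonempty ((DerivedCategory.Plus.homologyFunctor A q).obj
        (((tP A).truncGE q).obj (((tP A).truncLT (q + 1)).obj X)) ≅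
      (DerivedCategory.Plus.homologyFunctor A q).obj X) := by
  have h1 : IsIso (((DerivedCategory.Plus.homologyFunctor A 0).shift q).map
      (((tP A).truncLTι (q + 1)).app X)) := by
    refine isIso_map_mor₁ (DerivedCategory.Plus.homologyFunctor A 0)
      (((tP A).triangleLTGE (q + 1)).obj X) ((tP A).triangleLTGE_distinguished (q + 1) X)
      (q - 1) q (by omega) ?_ ?_
    · exact DerivedCategory.Plus.isZero_homology_of_isGE
        (((tP A).triangleLTGE (q + 1)).obj X).obj₃ (q + 1) (q - 1) (by omega)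
    · exact DerivedCategory.Plus.isZero_homology_of_isGE
        (((tP A).triangleLTGE (q + 1)).obj X).obj₃ (q + 1) q (by omega)
  have h2 : IsIso (((DerivedCategory.Plus.homologyFunctor A 0).shift q).map
      (((tP A).truncGEπ q).app (((tP A).truncLT (q + 1)).obj X))) := by
    refine isIso_map_mor₂ (DerivedCategory.Plus.homologyFunctor A 0)
      (((tP A).triangleLTGE q).obj (((tP A).truncLT (q + 1)).obj X))
      ((tP A).triangleLTGE_distinguished q _) q (q + 1) rfl ?_ ?_
    · exact DerivedCategory.Plus.isZero_homology_of_isLE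
        (((tP A).triangleLTGE q).obj (((tP A).truncLT (q + 1)).obj X)).obj₁ (q - 1) q (by omega)
    · exact DerivedCategory.Plus.isZero_homology_of_isLE
        (((tP A).triangleLTGE q).obj (((tP A).truncLT (q + 1)).obj X)).obj₁ (q - 1) (q + 1) (by omega)
  exact ⟨(@asIso _ _ _ _ _ h2).symm ≪≫ @asIso _ _ _ _ _ h1⟩

/-- An object of `D⁺` concentrated in degree `q` is the single complex on its `H^q`. -/
theorem nonempty_iso_single (Z : DerivedCategory.Plus A) (q : ℤ) [Z.IsGE q] [Z.IsLE q] :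
    Nonempty (Z ≅ (DerivedCategory.Plus.singleFunctor A q).obj
      ((DerivedCategory.Plus.homologyFunctor A q).obj Z)) := by
  obtain ⟨Y0, ⟨e⟩⟩ :=
    DerivedCategory.exists_iso_singleFunctor_obj_of_isGE_of_isLE (DerivedCategory.Plus.ι.obj Z) q
  let e' : Z ≅ (DerivedCategory.Plus.singleFunctor A q).obj Y0 :=
    DerivedCategory.Plus.ι.preimageIso e
  let a : (DerivedCategory.Plus.homologyFunctor A q).obj Z ≅ Y0 :=
    (DerivedCategory.homologyFunctor A q).mapIso e ≪≫
      (DerivedCategory.homologyFunctorFactors A q).app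
        ((HomologicalComplex.single A (ComplexShape.up ℤ) q).obj Y0) ≪≫
      HomologicalComplex.singleObjHomologySelfIso (ComplexShape.up ℤ) q Y0
  exact ⟨e' ≪≫ (DerivedCategory.Plus.singleFunctor A q).mapIso a.symm⟩

end TS

section SS

variable {A : Type u} [Category.{v} A] [Abelian A] [HasDerivedCategory.{w} A] [EnoughInjectives A]
  {B : Type u'} [Category.{v'} B] [Abelian B] [HasDerivedCategory.{w'} B]
  (S : A ⥤ B) [S.Additive]

attribute [local instance] Groth.Agent.H42.RDPlus.commShift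

/-- `R⁺S` is triangulated (helper42). -/
local instance : S.rightDerivedFunctorPlus.IsTriangulated :=
  Groth.Agent.H42.RDPlus.isTriangulated S

theorem isGE_RF (Z : DerivedCategory.Plus A) (m : ℤ) [Z.IsGE m] :
    (S.rightDerivedFunctorPlus.obj Z).IsGE m := by
  obtain ⟨K, hK, ⟨e⟩⟩ := exists_iso_Qp Z m
  haveI := hK
  haveI := isGE_rightDerivedFunctorPlus_obj S K m
  exact DerivedCategory.Plus.TStructure.t.isGE_of_iso (S.rightDerivedFunctorPlus.mapIso e.symm) m

/-- The homological functor `H⁰ ∘ R⁺S` on `D⁺(A)`. -/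
noncomputable abbrev Phi : DerivedCategory.Plus A ⥤ B :=
  S.rightDerivedFunctorPlus ⋙ DerivedCategory.Plus.homologyFunctor B 0

theorem isZero_Phi_of_isGE (Z : DerivedCategory.Plus A) (m n : ℤ) [Z.IsGE m] (h : n < m) :
    IsZero (((Phi S).shift n).obj Z) := by
  haveI := isGE_RF S Z m
  exact DerivedCategory.Plus.isZero_homology_of_isGE (S.rightDerivedFunctorPlus.obj Z) m n h

theorem isZero_Phi_of_isZero (Z : DerivedCategory.Plus A) (hZ : IsZero Z) (n : ℤ) :
    IsZero (((Phi S).shift n).obj Z) :=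
  Functor.map_isZero _ hZ

theorem nonempty_Phi_single_iso (Y0 : A) (p q : ℤ) :
    Nonempty (((Phi S).shift (p + q)).obj ((DerivedCategory.Plus.singleFunctor A q).obj Y0) ≅
      (RnF S p).obj Y0) := by
  let s1 : (DerivedCategory.Plus.singleFunctor A q).obj Y0 ≅
      ((DerivedCategory.Plus.singleFunctor A 0).obj Y0)⟦-q⟧ :=
    (((DerivedCategory.Plus.singleFunctors A).shiftIso (-q) q 0 (by omega)).app Y0).symm
  let s2 : (DerivedCategory.Plus.singleFunctor A 0).obj Y0 ≅ Qp.obj (sglP.obj Y0) :=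
    DerivedCategory.Plus.ι.preimageIso
      (show DerivedCategory.Plus.ι.obj ((DerivedCategory.Plus.singleFunctor A 0).obj Y0) ≅
        DerivedCategory.Plus.ι.obj (Qp.obj (sglP.obj Y0)) from (qpIso (sglP.obj Y0)).symm)
  let s3 : ((Phi S).shift (p + q)).obj ((Qp.obj (sglP.obj Y0))⟦-q⟧) ≅
      ((Phi S).shift p).obj (Qp.obj (sglP.obj Y0)) :=
    ((Phi S).shiftIso (-q) (p + q) p (by omega)).app _
  exact ⟨((Phi S).shift (p + q)).mapIso (s1 ≪≫ (shiftFunctor _ (-q)).mapIso s2) ≪≫ s3⟩

variable (X : DerivedCategory.Plus A)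

/-- The spectral object `(a ≤ b) ↦ Hⁿ(R⁺S(τ_{≥a} τ_{<b} X))`. -/
noncomputable def specObj : Abelian.SpectralObject B EInt :=
  Groth.Agent.H5.SpSeqLib.mapHomological ((tP A).spectralObject X) (Phi S)

theorem specObj_H_obj (n : ℤ) (i j : EInt) (hij : i ≤ j) :
    ((specObj S X).H n).obj (mk₁ (homOfLE hij)) =
      ((Phi S).shift n).obj (((tP A).eTruncGE.obj i).obj (((tP A).eTruncLT.obj j).obj X)) := rfl

instance [X.IsGE 0] : (specObj S X).IsFirstQuadrant where
  isZero₁ i j hij hj n := by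
    rw [specObj_H_obj]
    have h1 : IsZero (((tP A).eTruncLT.obj j).obj X) := (tP A).isZero_eTruncLT_obj_obj X 0 j hj
    exact isZero_Phi_of_isZero S _ (Functor.map_isZero _ h1) n
  isZero₂ i j hij n hi := by
    rw [specObj_H_obj]
    induction i using WithBotTop.rec with
    | bot => simp at hi
    | coe i' =>
      have hlt : n < i' := by simpa using hi
      haveI : (((tP A).eTruncGE.obj (i' : EInt)).obj (((tP A).eTruncLT.obj j).obj X)).IsGE i' :=
        (tP A).isGE_eTruncGE_obj_obj i' i' le_rfl _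
      exact isZero_Phi_of_isGE S _ i' n hlt
    | top =>
      exact isZero_Phi_of_isZero S _
        (Functor.zero_obj _ : IsZero (((tP A).eTruncGE.obj ⊤).obj _)) n

theorem nonempty_E2_iso (p q : ℤ) :
    Nonempty (((specObj S X).E₂SpectralSequence.page 2 le_rfl).X (p, q) ≅
      (RnF S p).obj ((DerivedCategory.Plus.homologyFunctor A q).obj X)) := by
  let Z : DerivedCategory.Plus A := ((tP A).truncGE q).obj (((tP A).truncLT (q + 1)).obj X)
  let e0 : ((specObj S X).E₂SpectralSequence.page 2 le_rfl).X (p, q) ≅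
      ((Phi S).shift (p + q)).obj Z :=
    (specObj S X).spectralSequenceFirstPageXIso Abelian.SpectralObject.coreE₂Cohomological (p, q)
      ((q : ℤ) : EInt) ((q + 1 : ℤ) : EInt) rfl rfl (p + q) rfl
  haveI : Z.IsGE q := inferInstanceAs ((((tP A).truncGE q).obj (((tP A).truncLT (q + 1)).obj X)).IsGE q)
  haveI : Z.IsLE q := inferInstanceAs ((((tP A).truncGE q).obj (((tP A).truncLT (q + 1)).obj X)).IsLE q)
  obtain ⟨e1⟩ := nonempty_iso_single Z q
  obtain ⟨e2⟩ := nonempty_homology_trunc_iso X q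
  let e3 : Z ≅ (DerivedCategory.Plus.singleFunctor A q).obj
      ((DerivedCategory.Plus.homologyFunctor A q).obj X) :=
    e1 ≪≫ (DerivedCategory.Plus.singleFunctor A q).mapIso e2
  obtain ⟨e4⟩ := nonempty_Phi_single_iso S ((DerivedCategory.Plus.homologyFunctor A q).obj X) p q
  exact ⟨e0 ≪≫ ((Phi S).shift (p + q)).mapIso e3 ≪≫ e4⟩

theorem nonempty_abut_iso (n : ℤ) :
    Nonempty (Groth.Agent.H5.SpSeqLib.abut (specObj S X) n ≅ ((Phi S).shift n).obj X) :=
  ⟨Iso.refl _⟩

end SS

section Main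

open scoped ZeroObject

attribute [local instance] Groth.Agent.H42.RDPlus.commShift

/-- **The Grothendieck spectral sequence** of a composite of functors. -/
theorem main {C C' C'' : Type u} [Category.{v} C] [Category.{v} C'] [Category.{v} C'']
    [Abelian C] [Abelian C'] [Abelian C''] [HasInjectiveResolutions C] [HasInjectiveResolutions C']
    (T : C ⥤ C') [T.Additive] (S : C' ⥤ C'') [S.Additive] [PreservesFiniteLimits S]
    (hT : ∀ Q : C, Injective Q → ∀ q : ℕ, 0 < q → IsZero ((S.rightDerived q).obj (T.obj Q)))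
    (A0 : C) :
    ∃ (E : E₂CohomologicalSpectralSequence C'')
      (a : SpSeq.Abutment E
        (fun n : ℤ => if 0 ≤ n then ((T ⋙ S).rightDerived n.toNat).obj A0 else 0)),
      (∀ n, a.IsFinite n) ∧ SpSeq.IsBounded E ∧
      ∀ p q : ℤ, Nonempty ((E.page 2 le_rfl).X (p, q) ≅
        (if 0 ≤ p ∧ 0 ≤ q then (S.rightDerived p.toNat).obj ((T.rightDerived q.toNat).obj A0)
          else 0)) := by
  letI := HasDerivedCategory.standard C
  letI := HasDerivedCategory.standard C'
  letI := HasDerivedCategory.standard C''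
  haveI := enoughInjectives_of_hasInjectiveResolutions C
  haveI := enoughInjectives_of_hasInjectiveResolutions C'
  let X : DerivedCategory.Plus C' := T.rightDerivedFunctorPlus.obj (Qp.obj (sglP.obj A0))
  haveI : X.IsGE 0 := isGE_rightDerivedFunctorPlus_obj T (sglP.obj A0) 0
  have hAcy : ∀ I : C, Injective I → Acy S (T.obj I) :=
    fun I hI => acy_of_rightDerived S _ (hT I hI)
  obtain ⟨c⟩ := nonempty_comp_iso T S (T ⋙ S) (Iso.refl _) hAcy
  have hab : ∀ n : ℤ, Nonempty ((if 0 ≤ n then ((T ⋙ S).rightDerived n.toNat).obj A0 else 0) ≅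
      Groth.Agent.H5.SpSeqLib.abut (specObj S X) n) := by
    intro n
    by_cases hn : 0 ≤ n
    · obtain ⟨n', rfl⟩ := Int.eq_ofNat_of_zero_le hn
      rw [if_pos hn, Int.toNat_natCast]
      obtain ⟨b⟩ := nonempty_rnf_iso (T ⋙ S) A0 n'
      exact ⟨b.symm ≪≫ (DerivedCategory.Plus.homologyFunctor C'' n').mapIso
        (c.app (Qp.obj (sglP.obj A0))).symm⟩
    · rw [if_neg hn]
      exact ⟨(isZero_zero _).iso (isZero_Phi_of_isGE S X 0 n (by omega))⟩
  let θ : ∀ n : ℤ, (if 0 ≤ n then ((T ⋙ S).rightDerived n.toNat).obj A0 else 0) ≅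
      Groth.Agent.H5.SpSeqLib.abut (specObj S X) n := fun n => Classical.choice (hab n)
  refine ⟨(specObj S X).E₂SpectralSequence, Groth.Agent.H5.SpSeqLib.abutment (specObj S X) θ,
    Groth.Agent.H5.SpSeqLib.abutment_isFinite (specObj S X) θ,
    Groth.Agent.H5.SpSeqLib.isBounded (specObj S X), ?_⟩
  intro p q
  by_cases hpq : 0 ≤ p ∧ 0 ≤ q
  · obtain ⟨hp, hq⟩ := hpq
    obtain ⟨p', rfl⟩ := Int.eq_ofNat_of_zero_le hp
    obtain ⟨q', rfl⟩ := Int.eq_ofNat_of_zero_le hq
    rw [if_pos ⟨hp, hq⟩, Int.toNat_natCast, Int.toNat_natCast]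
    obtain ⟨e1⟩ := nonempty_E2_iso S X p' q'
    obtain ⟨e2⟩ := nonempty_rnf_iso S ((DerivedCategory.Plus.homologyFunctor C' q').obj X) p'
    obtain ⟨e3⟩ := nonempty_rnf_iso T A0 q'
    exact ⟨e1 ≪≫ e2 ≪≫ (S.rightDerived p').mapIso e3⟩
  · rw [if_neg hpq]
    refine ⟨(Groth.Agent.H5.SpSeqLib.isZero_page (specObj S X) 2 le_rfl (p, q) ?_).iso
      (isZero_zero _)⟩
    simp only [not_and_or, not_le] at hpq
    exact hpq

end Main

end Groth.Agent.H5.GSS
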