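import Groth.Agent.H5.SpSeq.GrothSS
import Mathlib.CategoryTheory.Abelian.Injective.Ext
import Mathlib.Algebra.Homology.ShortComplex.Ab
import Mathlib.CategoryTheory.Preadditive.Yoneda.Limits

/-!
# The Grothendieck spectral sequence: flexible form and `Ext` form

* `main'`: universe-polymorphic version of `GSS.main`, for arbitrary families `Hn`, `E2` of objects
  isomorphic to the derived functors.
* `homF W = Hom(W, -)` with values in abelian groups, `extBridge : RⁿHom(W,-)(Y) ≅ Extⁿ(W, Y)`.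
* `extForm`: if `Hom(W', T -) ≅ Hom(W, -)` and `Ext^q(W', T I) = 0` for `I` injective, `q > 0`, there
  is a spectral sequence `E₂^{pq} = Ext^p(W', R^qT A) ⇒ Ext^{p+q}(W, A)`.
-/

set_option autoImplicit false
universe w v₁ v₂ v₃ u₁ u₂ u₃ v u

open CategoryTheory Limits Pretriangulated ComposableArrows Opposite
open Groth.Agent.H45.RDP

namespace Groth.Agent.H5.GSS

section Main'

attribute [local instance] Groth.Agent.H42.RDPlus.commShift

/-- **The Grothendieck spectral sequence**, flexible form. -/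
theorem main' {C : Type u₁} {C' : Type u₂} {C'' : Type u₃} [Category.{v₁} C] [Category.{v₂} C']
    [Category.{v₃} C''] [Abelian C] [Abelian C'] [Abelian C'']
    [HasInjectiveResolutions C] [HasInjectiveResolutions C']
    (T : C ⥤ C') [T.Additive] (S : C' ⥤ C'') [S.Additive] [PreservesFiniteLimits S]
    (hT : ∀ Q : C, Injective Q → ∀ q : ℕ, 0 < q → IsZero ((S.rightDerived q).obj (T.obj Q)))
    (A0 : C) (Hn : ℤ → C'') (E2 : ℤ → ℤ → C'')
    (hH : ∀ n : ℕ, Nonempty (Hn n ≅ ((T ⋙ S).rightDerived n).obj A0))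
    (hH' : ∀ n : ℤ, n < 0 → IsZero (Hn n))
    (hE : ∀ p q : ℕ, Nonempty (E2 p q ≅ (S.rightDerived p).obj ((T.rightDerived q).obj A0)))
    (hE' : ∀ p q : ℤ, p < 0 ∨ q < 0 → IsZero (E2 p q)) :
    ∃ (E : E₂CohomologicalSpectralSequence C'') (a : SpSeq.Abutment E Hn),
      (∀ n, a.IsFinite n) ∧ SpSeq.IsBounded E ∧
      ∀ p q : ℤ, Nonempty ((E.page 2 le_rfl).X (p, q) ≅ E2 p q) := by
  letI := HasDerivedCategory.standard C
  letI := HasDerivedCategory.standard C'
  letI := HasDerivedCategory.standard C''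
  haveI := enoughInjectives_of_hasInjectiveResolutions C
  haveI := enoughInjectives_of_hasInjectiveResolutions C'
  let X : DerivedCategory.Plus C' := T.rightDerivedFunctorPlus.obj (Qp.obj (sglP.obj A0))
  haveI : X.IsGE 0 := isGE_rightDerivedFunctorPlus_obj T (sglP.obj A0) 0
  have hAcy : ∀ I : C, Injective I → Acy S (T.obj I) :=
    fun I hI => acy_of_rightDerived S _ (hT I hI)
  obtain ⟨c⟩ := nonempty_comp_iso T S (T ⋙ S) (Iso.refl _) hAcy
  have hab : ∀ n : ℤ, Nonempty (Hn n ≅ Groth.Agent.H5.SpSeqLib.abut (specObj S X) n) := by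
    intro n
    by_cases hn : 0 ≤ n
    · obtain ⟨n', rfl⟩ := Int.eq_ofNat_of_zero_le hn
      obtain ⟨a⟩ := hH n'
      obtain ⟨b⟩ := nonempty_rnf_iso (T ⋙ S) A0 n'
      exact ⟨a ≪≫ b.symm ≪≫ (DerivedCategory.Plus.homologyFunctor C'' n').mapIso
        (c.app (Qp.obj (sglP.obj A0))).symm⟩
    · exact ⟨(hH' n (by omega)).iso (isZero_Phi_of_isGE S X 0 n (by omega))⟩
  let θ : ∀ n : ℤ, Hn n ≅ Groth.Agent.H5.SpSeqLib.abut (specObj S X) n :=
    fun n => Classical.choice (hab n)
  refine ⟨(specObj S X).E₂SpectralSequence, Groth.Agent.H5.SpSeqLib.abutment (specObj S X) θ,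
    Groth.Agent.H5.SpSeqLib.abutment_isFinite (specObj S X) θ,
    Groth.Agent.H5.SpSeqLib.isBounded (specObj S X), ?_⟩
  intro p q
  by_cases hpq : 0 ≤ p ∧ 0 ≤ q
  · obtain ⟨hp, hq⟩ := hpq
    obtain ⟨p', rfl⟩ := Int.eq_ofNat_of_zero_le hp
    obtain ⟨q', rfl⟩ := Int.eq_ofNat_of_zero_le hq
    obtain ⟨e0⟩ := hE p' q'
    obtain ⟨e1⟩ := nonempty_E2_iso S X p' q'
    obtain ⟨e2⟩ := nonempty_rnf_iso S ((DerivedCategory.Plus.homologyFunctor C' q').obj X) p'
    obtain ⟨e3⟩ := nonempty_rnf_iso T A0 q'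
    exact ⟨e1 ≪≫ e2 ≪≫ (S.rightDerived p').mapIso e3 ≪≫ e0.symm⟩
  · refine ⟨(Groth.Agent.H5.SpSeqLib.isZero_page (specObj S X) 2 le_rfl (p, q) ?_).iso
      (hE' p q ?_)⟩
    · simp only [not_and_or, not_le] at hpq
      exact hpq
    · simp only [not_and_or, not_le] at hpq
      exact hpq

end Main'

section HomF

variable {C : Type u} [Category.{v} C] [Preadditive C]

/-- `Hom(W, -)` as a functor to abelian groups. -/
def homF (W : C) : C ⥤ AddCommGrpCat.{v} where
  obj Y := AddCommGrpCat.of (W ⟶ Y)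
  map f := AddCommGrpCat.ofHom
    { toFun := fun g => g ≫ f
      map_zero' := Limits.zero_comp
      map_add' := fun _ _ => Preadditive.add_comp _ _ _ _ _ _ }
  map_id Y := AddCommGrpCat.ext fun g => Category.comp_id g
  map_comp f g := AddCommGrpCat.ext fun h => (Category.assoc h f g).symm

@[simp] theorem homF_map_apply (W : C) {Y Z : C} (f : Y ⟶ Z) (g : W ⟶ Y) :
    ((homF W).map f).hom g = g ≫ f := rfl

instance (W : C) : (homF W).Additive where
  map_add {Y Z f g} := AddCommGrpCat.ext fun h => Preadditive.comp_add _ _ _ h f g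

/-- Comparison with Mathlib's `preadditiveCoyoneda`. -/
def homFIso (W : C) : homF W ≅ preadditiveCoyoneda.obj (op W) :=
  NatIso.ofComponents (fun Y => Iso.refl _) (fun f => by
    apply AddCommGrpCat.ext
    intro g
    rfl)

instance (W : C) : PreservesFiniteLimits (homF W) :=
  preservesFiniteLimits_of_natIso (homFIso W).symm

end HomF

section AbHomology

/-- Homology of a short complex of abelian groups, computed through a surjection from the cycles
whose kernel is the boundaries. -/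
theorem nonempty_homology_iso_of_surjective (Sh : ShortComplex AddCommGrpCat.{u}) (G : Type u)
    [AddCommGroup G] (φ : AddMonoidHom.ker Sh.g.hom →+ G) (hsurj : Function.Surjective φ)
    (hker : ∀ x, φ x = 0 ↔ ∃ y : Sh.X₁, Sh.f y = x.1) :
    Nonempty (Sh.homology ≅ AddCommGrpCat.of G) := by
  have hk : φ.ker = AddMonoidHom.range Sh.abToCycles := by
    ext x
    rw [AddMonoidHom.mem_ker, hker, AddMonoidHom.mem_range]
    constructor
    · rintro ⟨y, hy⟩
      exact ⟨y, Subtype.ext hy⟩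
    · rintro ⟨y, hy⟩
      exact ⟨y, congrArg Subtype.val hy⟩
  let e : (AddMonoidHom.ker Sh.g.hom ⧸ AddMonoidHom.range Sh.abToCycles) ≃+ G :=
    (QuotientAddGroup.quotientAddEquivOfEq hk.symm).trans
      (QuotientAddGroup.quotientKerEquivOfSurjective φ hsurj)
  exact ⟨Sh.abHomologyIso ≪≫ AddEquiv.toAddCommGrpIso e⟩

end AbHomology

section ExtBridge

open CochainComplex HomComplex Abelian

variable {C : Type u} [Category.{v} C] [Abelian C] [HasExt.{v} C]

theorem extMk_zero_eq_zero_iff {X Y : C} (R : InjectiveResolution Y) (f : X ⟶ R.cocomplex.X 0)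
    (hf : f ≫ R.cocomplex.d 0 1 = 0) : R.extMk f 1 rfl hf = 0 ↔ f = 0 := by
  constructor
  · intro h
    have h' := h
    simp only [← R.extEquivCohomologyClass.apply_eq_iff_eq,
      InjectiveResolution.extEquivCohomologyClass_extMk,
      InjectiveResolution.extEquivCohomologyClass_zero,
      CohomologyClass.mk_eq_zero_iff] at h'
    rw [Cocycle.fromSingleMk_mem_coboundaries_iff _ _ _ _ _ (-1) (by simp)] at h'
    obtain ⟨g, hg⟩ := h'
    have hz : IsZero (R.cochainComplex.X (-1)) :=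
      CochainComplex.isZero_of_isStrictlyGE _ 0 _ (by omega)
    rw [hz.eq_of_tgt g 0, zero_comp] at hg
    rw [← cancel_mono (R.cochainComplexXIso 0 0 rfl).inv, zero_comp]
    exact hg.symm
  · rintro rfl
    exact R.extMk_zero 1 rfl

theorem extBridge_aux (W Y : C) (R : InjectiveResolution Y) (i n : ℕ)
    (hi : (ComplexShape.up ℕ).prev n = i)
    (hz : ∀ (f : W ⟶ R.cocomplex.X n) (hf : f ≫ R.cocomplex.d n (n + 1) = 0),
      (R.extMk f (n + 1) rfl hf = 0 ↔ ∃ g : W ⟶ R.cocomplex.X i, g ≫ R.cocomplex.d i n = f)) :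
    Nonempty ((((homF W).mapHomologicalComplex (ComplexShape.up ℕ)).obj R.cocomplex).homology n ≅
      AddCommGrpCat.of (Ext W Y n)) := by
  let K := ((homF W).mapHomologicalComplex (ComplexShape.up ℕ)).obj R.cocomplex
  let e7 : K.homology n ≅ (K.sc' i n (n + 1)).homology :=
    K.homologyIsoSc' i n (n + 1) hi (by simp)
  let Sh := K.sc' i n (n + 1)
  have hmem : ∀ x : AddMonoidHom.ker Sh.g.hom,
      (x.1 : W ⟶ R.cocomplex.X n) ≫ R.cocomplex.d n (n + 1) = 0 :=
    fun x => AddMonoidHom.mem_ker.1 x.2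
  let φ : AddMonoidHom.ker Sh.g.hom →+ Ext W Y n :=
    { toFun := fun x => R.extMk (x.1 : W ⟶ R.cocomplex.X n) (n + 1) rfl (hmem x)
      map_zero' := R.extMk_zero (n + 1) rfl
      map_add' := fun x y => (R.add_extMk (x.1 : W ⟶ R.cocomplex.X n)
        (y.1 : W ⟶ R.cocomplex.X n) (n + 1) rfl (hmem x) (hmem y)).symm }
  have hsurj : Function.Surjective φ := by
    intro α
    obtain ⟨f, hf, rfl⟩ := R.extMk_surjective α (n + 1) rfl
    exact ⟨⟨f, AddMonoidHom.mem_ker.2 hf⟩, rfl⟩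
  have hker : ∀ x, φ x = 0 ↔ ∃ y : Sh.X₁, Sh.f y = x.1 := fun x => hz _ (hmem x)
  obtain ⟨e8⟩ := nonempty_homology_iso_of_surjective Sh (Ext W Y n) φ hsurj hker
  exact ⟨e7 ≪≫ e8⟩

/-- The classical right derived functors of `Hom(W, -)` are the `Ext` groups. -/
theorem extBridge [HasInjectiveResolutions C] (W Y : C) (n : ℕ) :
    Nonempty (((homF W).rightDerived n).obj Y ≅ AddCommGrpCat.of (Ext W Y n)) := by
  let R := injectiveResolution Y
  let e6 := R.isoRightDerivedObj (homF W) n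
  cases n with
  | zero =>
    obtain ⟨e⟩ := extBridge_aux W Y R 0 0 CochainComplex.prev_nat_zero (fun f hf => by
      rw [extMk_zero_eq_zero_iff]
      constructor
      · rintro rfl
        exact ⟨0, zero_comp⟩
      · rintro ⟨g, rfl⟩
        rw [R.cocomplex.shape 0 0 (by simp), comp_zero])
    exact ⟨e6 ≪≫ e⟩
  | succ p =>
    obtain ⟨e⟩ := extBridge_aux W Y R p (p + 1) (CochainComplex.prev_nat_succ p) (fun f hf =>
      R.extMk_eq_zero_iff f (p + 1 + 1) rfl hf p rfl)
    exact ⟨e6 ≪≫ e⟩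

end ExtBridge

section ExtForm

open Abelian

/-- **Grothendieck spectral sequence, `Ext` form.**  If `Hom(W', T -) ≅ Hom(W, -)` and
`Ext^q(W', T I) = 0` for `I` injective and `q > 0`, there is a first quadrant spectral sequence
`E₂^{pq} = Ext^p(W', R^qT A0) ⇒ Ext^{p+q}(W, A0)`. -/
theorem extForm {C : Type u₁} {C' : Type u₂} [Category.{v} C] [Category.{v} C'] [Abelian C]
    [Abelian C'] [HasInjectiveResolutions C] [HasInjectiveResolutions C'] [HasExt.{v} C]
    [HasExt.{v} C'] (T : C ⥤ C') [T.Additive] (W : C) (W' : C')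
    (e : T ⋙ homF W' ≅ homF W)
    (hT : ∀ Q : C, Injective Q → ∀ q : ℕ, 0 < q → ∀ x : Ext W' (T.obj Q) q, x = 0)
    (A0 : C) (Hn : ℤ → AddCommGrpCat.{v}) (E2 : ℤ → ℤ → AddCommGrpCat.{v})
    (hH : ∀ n : ℕ, Nonempty (Hn n ≅ AddCommGrpCat.of (Ext W A0 n)))
    (hH' : ∀ n : ℤ, n < 0 → IsZero (Hn n))
    (hE : ∀ p q : ℕ, Nonempty (E2 p q ≅ AddCommGrpCat.of (Ext W' ((T.rightDerived q).obj A0) p)))
    (hE' : ∀ p q : ℤ, p < 0 ∨ q < 0 → IsZero (E2 p q)) :
    ∃ (E : E₂CohomologicalSpectralSequence AddCommGrpCat.{v}) (a : SpSeq.Abutment E Hn),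
      (∀ n, a.IsFinite n) ∧ SpSeq.IsBounded E ∧
      ∀ p q : ℤ, Nonempty ((E.page 2 le_rfl).X (p, q) ≅ E2 p q) := by
  refine main' T (homF W') ?_ A0 Hn E2 ?_ hH' ?_ hE'
  · intro Q hQ q hq
    obtain ⟨b⟩ := extBridge W' (T.obj Q) q
    have : Subsingleton (Ext W' (T.obj Q) q) :=
      ⟨fun x y => (hT Q hQ q hq x).trans (hT Q hQ q hq y).symm⟩
    exact (AddCommGrpCat.isZero_of_subsingleton _).of_iso b
  · intro n
    obtain ⟨a⟩ := hH n
    obtain ⟨b⟩ := extBridge W A0 n
    let c : ((T ⋙ homF W').rightDerived n).obj A0 ≅ ((homF W).rightDerived n).obj A0 :=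
      { hom := (NatTrans.rightDerived e.hom n).app A0
        inv := (NatTrans.rightDerived e.inv n).app A0
        hom_inv_id := by
          rw [← NatTrans.comp_app, ← NatTrans.rightDerived_comp, e.hom_inv_id,
            NatTrans.rightDerived_id]
          rfl
        inv_hom_id := by
          rw [← NatTrans.comp_app, ← NatTrans.rightDerived_comp, e.inv_hom_id,
            NatTrans.rightDerived_id]
          rfl }
    exact ⟨a ≪≫ b.symm ≪≫ c.symm⟩
  · intro p q
    obtain ⟨a⟩ := hE p q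
    obtain ⟨b⟩ := extBridge W' ((T.rightDerived q).obj A0) p
    exact ⟨a ≪≫ b.symm⟩

end ExtForm

end Groth.Agent.H5.GSS
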