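import Groth.Agent.H5.SpSeq.ExtForm
import Groth.Agent.H45.LocCohZLib
import Groth.Agent.S6023
import Groth.Prelude.Def_LocCohZ

/-!
# Spectral sequences for cohomology with supports on a topological space
-/

set_option autoImplicit false
universe u
open CategoryTheory Limits Opposite TopologicalSpace Abelian

namespace Groth.Agent.H5.LocCohZSS

open Groth.Agent.H5.GSS

variable {X : TopCat.{u}}

/-- `Hom(ℤ_V/ℤ_W, F)` is the group of sections of `F` over `V` vanishing on `W`. -/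
noncomputable def zqHomEquiv {W V : Opens X} (h : W ≤ V) (F : CohTop.Ab X) :
    (LocCohZ.zq h ⟶ F) ≃+ LocCohZ.sectZ F h :=
  (Abelian.Ext.addEquiv₀ (X := LocCohZ.zq h) (Y := F)).symm.trans (LocCohZ.sect0Equiv F h)

theorem zqHomEquiv_apply_val {W V : Opens X} (h : W ≤ V) (F : CohTop.Ab X)
    (φ : LocCohZ.zq h ⟶ F) :
    (zqHomEquiv h F φ).1 = CohFree.evalGen (Opens.grothendieckTopology X) V F
      (cokernel.π (CohCx.freeSheafMap (Opens.grothendieckTopology X) (homOfLE h)) ≫ φ) := by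
  change CohFree.evalGen _ V F (cokernel.π _ ≫
    Abelian.Ext.addEquiv₀ (Abelian.Ext.addEquiv₀.symm φ)) = _
  rw [AddEquiv.apply_symm_apply]

theorem zqHomEquiv_comp {W V : Opens X} (h : W ≤ V) {F G : CohTop.Ab X}
    (φ : LocCohZ.zq h ⟶ F) (g : F ⟶ G) :
    (zqHomEquiv h G (φ ≫ g)).1 = g.hom.app (op V) (zqHomEquiv h F φ).1 := by
  rw [zqHomEquiv_apply_val, zqHomEquiv_apply_val, ← Category.assoc]
  rfl

section Push

variable {Y : TopCat.{u}} (f : X ⟶ Y) (V : Opens Y)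

/-- `Hom(ℤ_Y/ℤ_V, f_* F) ≃ Hom(ℤ_X/ℤ_{f⁻¹V}, F)`. -/
noncomputable def pushEquiv (F : CohTop.Ab X) :
    (LocCohZ.zq (le_top : V ≤ ⊤) ⟶ (CohTop.push f).obj F) ≃+
      (LocCohZ.zq (le_top : (Opens.map f).obj V ≤ ⊤) ⟶ F) :=
  ((zqHomEquiv (le_top : V ≤ ⊤) ((CohTop.push f).obj F)).trans
    (AddEquiv.refl _ : LocCohZ.sectZ ((CohTop.push f).obj F) (le_top : V ≤ ⊤) ≃+
      LocCohZ.sectZ F (le_top : (Opens.map f).obj V ≤ ⊤))).trans
    (zqHomEquiv (le_top : (Opens.map f).obj V ≤ ⊤) F).symm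

theorem pushEquiv_comp {F G : CohTop.Ab X} (g : F ⟶ G)
    (ψ : LocCohZ.zq (le_top : V ≤ ⊤) ⟶ (CohTop.push f).obj F) :
    pushEquiv f V G (ψ ≫ (CohTop.push f).map g) = pushEquiv f V F ψ ≫ g := by
  apply (zqHomEquiv (le_top : (Opens.map f).obj V ≤ ⊤) G).injective
  apply Subtype.ext
  rw [zqHomEquiv_comp]
  have h1 : zqHomEquiv (le_top : (Opens.map f).obj V ≤ ⊤) G
      (pushEquiv f V G (ψ ≫ (CohTop.push f).map g)) =
      zqHomEquiv (le_top : V ≤ ⊤) ((CohTop.push f).obj G) (ψ ≫ (CohTop.push f).map g) :=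
    AddEquiv.apply_symm_apply _ _
  have h2 : zqHomEquiv (le_top : (Opens.map f).obj V ≤ ⊤) F (pushEquiv f V F ψ) =
      zqHomEquiv (le_top : V ≤ ⊤) ((CohTop.push f).obj F) ψ :=
    AddEquiv.apply_symm_apply _ _
  rw [h1, h2]
  exact zqHomEquiv_comp (le_top : V ≤ ⊤) ψ ((CohTop.push f).map g)

/-- The natural isomorphism `Hom(ℤ_Y/ℤ_V, f_* -) ≅ Hom(ℤ_X/ℤ_{f⁻¹V}, -)`. -/
noncomputable def pushIso :
    CohTop.push f ⋙ homF (LocCohZ.zq (le_top : V ≤ ⊤)) ≅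
      homF (LocCohZ.zq (le_top : (Opens.map f).obj V ≤ ⊤)) :=
  NatIso.ofComponents (fun F => AddEquiv.toAddCommGrpIso (pushEquiv f V F)) (fun {F G} g => by
    apply AddCommGrpCat.ext
    intro ψ
    exact pushEquiv_comp f V g ψ)

theorem push_ext_eq_zero (Q : CohTop.Ab X) [Injective Q] (q : ℕ) (hq : 0 < q)
    (x : Ext (LocCohZ.zq (le_top : V ≤ ⊤)) ((CohTop.push f).obj Q) q) : x = 0 := by
  haveI : TopCat.Sheaf.IsFlasque Q := Groth.Agent.H42.CohTopLib.isFlasque_of_injective Q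
  haveI : TopCat.Sheaf.IsFlasque ((CohTop.push f).obj Q) :=
    inferInstanceAs (TopCat.Sheaf.IsFlasque ((TopCat.Sheaf.pushforward AddCommGrpCat.{u} f).obj Q))
  haveI := (Groth.Agent.S6023.result ((CohTop.push f).obj Q)).1 V ⊤ le_top q hq
  exact Subsingleton.elim _ _

end Push

section Supp

open Groth.Agent.H45.LocCohZLib

variable (U : Opens X)

theorem comp_η_eq_zero_iff (F : CohTop.Ab X)
    (φ : CohCx.freeSheaf (Opens.grothendieckTopology X) (⊤ : Opens X) ⟶ F) :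
    φ ≫ (η U).app F = 0 ↔
      CohCx.freeSheafMap (Opens.grothendieckTopology X) (homOfLE (le_top : U ≤ ⊤)) ≫ φ = 0 := by
  have e1 : φ ≫ (η U).app F = 0 ↔
      CohFree.evalGen (Opens.grothendieckTopology X) ⊤ _ (φ ≫ (η U).app F) = 0 :=
    (AddEquiv.map_eq_zero_iff (CohFree.homEquivSect (Opens.grothendieckTopology X) ⊤ _)).symm
  have e2 : CohCx.freeSheafMap (Opens.grothendieckTopology X) (homOfLE (le_top : U ≤ ⊤)) ≫ φ = 0 ↔
      CohFree.evalGen (Opens.grothendieckTopology X) U _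
        (CohCx.freeSheafMap (Opens.grothendieckTopology X) (homOfLE (le_top : U ≤ ⊤)) ≫ φ) = 0 :=
    (AddEquiv.map_eq_zero_iff (CohFree.homEquivSect (Opens.grothendieckTopology X) U _)).symm
  rw [e1, e2, CohFree.evalGen_freeSheafMap_comp]
  change ((η U).app F).hom.app (op ⊤) (CohFree.evalGen _ ⊤ F φ) = 0 ↔ _
  rw [unit_app_eq_zero_iff]
  have h1 : interOpen U ⊤ ≤ U := interOpen_le_self U ⊤
  have h2 : U ≤ interOpen U ⊤ := le_interOpen U le_top le_rfl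
  constructor
  · intro h
    have := congrArg (F.obj.map (homOfLE h2).op) h
    rw [map_zero, ← ConcreteCategory.comp_apply, ← F.obj.map_comp] at this
    exact this
  · intro h
    have := congrArg (F.obj.map (homOfLE h1).op) h
    rw [map_zero, ← ConcreteCategory.comp_apply, ← F.obj.map_comp] at this
    exact this

/-- The inclusion `Γ_Z F ⟶ F`. -/
noncomputable def ιZ (F : CohTop.Ab X) : (LocCohZ.sectSuppF U).obj F ⟶ F :=
  kernel.ι ((η U).app F)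

instance (F : CohTop.Ab X) : Mono (ιZ U F) := inferInstanceAs (Mono (kernel.ι ((η U).app F)))

theorem ιZ_η (F : CohTop.Ab X) : ιZ U F ≫ (η U).app F = 0 := kernel.condition _

/-- Lifting to `Γ_Z F`. -/
noncomputable def liftZ (F : CohTop.Ab X) {P : CohTop.Ab X} (φ : P ⟶ F)
    (h : φ ≫ (η U).app F = 0) : P ⟶ (LocCohZ.sectSuppF U).obj F :=
  kernel.lift ((η U).app F) φ h

theorem liftZ_ι (F : CohTop.Ab X) {P : CohTop.Ab X} (φ : P ⟶ F) (h : φ ≫ (η U).app F = 0) :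
    liftZ U F φ h ≫ ιZ U F = φ := kernel.lift_ι _ _ _

theorem map_ιZ {F G : CohTop.Ab X} (g : F ⟶ G) :
    (LocCohZ.sectSuppF U).map g ≫ ιZ U G = ιZ U F ≫ g := by
  unfold ιZ
  dsimp only [LocCohZ.sectSuppF]
  exact kernel.lift_ι _ _ _

/-- The projection `ℤ_X ⟶ ℤ_X/ℤ_U`. -/
noncomputable def πZ : CohCx.freeSheaf (Opens.grothendieckTopology X) (⊤ : Opens X) ⟶
    LocCohZ.zq (le_top : U ≤ ⊤) :=
  cokernel.π _

instance : Epi (πZ U) := inferInstanceAs (Epi (cokernel.π _))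

theorem ι_πZ : CohCx.freeSheafMap (Opens.grothendieckTopology X) (homOfLE (le_top : U ≤ ⊤)) ≫
    πZ U = 0 := cokernel.condition _

/-- Descending to `ℤ_X/ℤ_U`. -/
noncomputable def descZ {F : CohTop.Ab X}
    (φ : CohCx.freeSheaf (Opens.grothendieckTopology X) (⊤ : Opens X) ⟶ F)
    (h : CohCx.freeSheafMap (Opens.grothendieckTopology X) (homOfLE (le_top : U ≤ ⊤)) ≫ φ = 0) :
    LocCohZ.zq (le_top : U ≤ ⊤) ⟶ F :=
  cokernel.desc _ φ h

theorem π_descZ {F : CohTop.Ab X}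
    (φ : CohCx.freeSheaf (Opens.grothendieckTopology X) (⊤ : Opens X) ⟶ F)
    (h : CohCx.freeSheafMap (Opens.grothendieckTopology X) (homOfLE (le_top : U ≤ ⊤)) ≫ φ = 0) :
    πZ U ≫ descZ U φ h = φ := cokernel.π_desc _ _ _

/-- `Hom(ℤ_X/ℤ_U, F) ≃ Hom(ℤ_X, Γ_Z F)`. -/
noncomputable def suppEquiv (F : CohTop.Ab X) :
    (LocCohZ.zq (le_top : U ≤ ⊤) ⟶ F) ≃+
      (CohCx.freeSheaf (Opens.grothendieckTopology X) (⊤ : Opens X) ⟶
        (LocCohZ.sectSuppF U).obj F) where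
  toFun ψ := liftZ U F (πZ U ≫ ψ)
    ((comp_η_eq_zero_iff U F _).2 (by rw [← Category.assoc, ι_πZ, zero_comp]))
  invFun χ := descZ U (χ ≫ ιZ U F)
    ((comp_η_eq_zero_iff U F _).1 (by rw [Category.assoc, ιZ_η, comp_zero]))
  left_inv ψ := by
    apply (cancel_epi (πZ U)).1
    rw [π_descZ, liftZ_ι]
  right_inv χ := by
    apply (cancel_mono (ιZ U F)).1
    rw [liftZ_ι, π_descZ]
  map_add' ψ₁ ψ₂ := by
    apply (cancel_mono (ιZ U F)).1
    rw [Preadditive.add_comp, liftZ_ι, liftZ_ι, liftZ_ι, Preadditive.comp_add]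

theorem suppEquiv_ι (F : CohTop.Ab X) (ψ : LocCohZ.zq (le_top : U ≤ ⊤) ⟶ F) :
    suppEquiv U F ψ ≫ ιZ U F = πZ U ≫ ψ := liftZ_ι U F _ _

theorem suppEquiv_comp {F G : CohTop.Ab X} (g : F ⟶ G) (ψ : LocCohZ.zq (le_top : U ≤ ⊤) ⟶ F) :
    suppEquiv U G (ψ ≫ g) = suppEquiv U F ψ ≫ (LocCohZ.sectSuppF U).map g := by
  apply (cancel_mono (ιZ U G)).1
  rw [suppEquiv_ι, Category.assoc (suppEquiv U F ψ), map_ιZ, reassoc_of% (suppEquiv_ι U F ψ)]

/-- The natural isomorphism `Hom(ℤ_X, Γ_Z -) ≅ Hom(ℤ_X/ℤ_U, -)`. -/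
noncomputable def suppIso :
    LocCohZ.sectSuppF U ⋙ homF (CohCx.freeSheaf (Opens.grothendieckTopology X) (⊤ : Opens X)) ≅
      homF (LocCohZ.zq (le_top : U ≤ ⊤)) :=
  (NatIso.ofComponents (fun F => AddEquiv.toAddCommGrpIso (suppEquiv U F)) (fun {F G} g => by
    apply AddCommGrpCat.ext
    intro ψ
    exact suppEquiv_comp U g ψ)).symm

theorem supp_ext_eq_zero (Q : CohTop.Ab X) [Injective Q] (q : ℕ) (hq : 0 < q)
    (x : Ext (CohCx.freeSheaf (Opens.grothendieckTopology X) (⊤ : Opens X))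
      ((LocCohZ.sectSuppF U).obj Q) q) : x = 0 := by
  haveI : TopCat.Sheaf.IsFlasque Q := Groth.Agent.H42.CohTopLib.isFlasque_of_injective Q
  haveI : TopCat.Sheaf.IsFlasque ((LocCohZ.sectSuppF U).obj Q) := isFlasque_sectSuppF Q U
  obtain ⟨n, rfl⟩ := Nat.exists_eq_succ_of_ne_zero hq.ne'
  exact Groth.Agent.H42.CohTopLib.ext_succ_eq_zero_of_isFlasque
    (Groth.Agent.H42.CohTopLib.secRepZf ⊤) _ n x

end Supp

end Groth.Agent.H5.LocCohZSS
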