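import Groth.Prelude.Def_SpSeq
import Mathlib.Algebra.Homology.SpectralObject.SpectralSequence
import Mathlib.Algebra.Homology.SpectralObject.FirstPage
import Mathlib.CategoryTheory.Abelian.Refinements
import Mathlib.Data.Int.Interval

/-!
# Convergence of the first quadrant `E₂` spectral sequence of a spectral object

Mathlib constructs the spectral sequence `Y.E₂SpectralSequence` of a spectral object
`Y : Abelian.SpectralObject C EInt`.  Here we construct, under `Y.IsFirstQuadrant`, abutment data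
(`SpSeq.Abutment`) on any family `Hn n ≅ H^n(⊥ ≤ ⊤)`, with finite filtrations, and show that the
spectral sequence is bounded.
-/

set_option autoImplicit false
universe v u
open CategoryTheory Limits ComposableArrows

namespace Groth.Agent.H5.SpSeqLib

variable {C : Type u} [Category.{v} C] [Abelian C]

/-! ### An abstract subquotient lemma -/

section Subquot

variable {P R A Q E : C} (a : P ⟶ A) (c : R ⟶ A) (b : A ⟶ Q) (w : c ≫ b = 0)
  (hex : (ShortComplex.mk c b w).Exact) (e : P ⟶ E) (m : E ⟶ Q) [Epi e] [Mono m]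
  (fac : a ≫ b = e ≫ m) (hle : imageSubobject c ≤ imageSubobject a)

include fac in
theorem kernel_ι_comp_e : kernel.ι (factorThruImageSubobject a) ≫ e = 0 := by
  rw [← cancel_mono m, Category.assoc, ← fac, zero_comp]
  have h : kernel.ι (factorThruImageSubobject a) ≫ a = 0 := by
    have := kernel.condition (factorThruImageSubobject a)
    calc kernel.ι (factorThruImageSubobject a) ≫ a
        = kernel.ι (factorThruImageSubobject a) ≫ factorThruImageSubobject a ≫
            (imageSubobject a).arrow := by rw [imageSubobject_arrow_comp]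
      _ = 0 := by rw [← Category.assoc, this, zero_comp]
  rw [← Category.assoc, h, zero_comp]

/-- The induced map `im a ⟶ E`. -/
noncomputable def imToE : (imageSubobject a : C) ⟶ E :=
  Abelian.epiDesc (factorThruImageSubobject a) e (kernel_ι_comp_e a b e m fac)

theorem fact_imToE : factorThruImageSubobject a ≫ imToE a b e m fac = e :=
  Abelian.comp_epiDesc _ _ _

theorem imToE_m : imToE a b e m fac ≫ m = (imageSubobject a).arrow ≫ b := by
  apply (cancel_epi (factorThruImageSubobject a)).1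
  calc factorThruImageSubobject a ≫ imToE a b e m fac ≫ m = e ≫ m := by
        rw [← Category.assoc, fact_imToE]
    _ = a ≫ b := fac.symm
    _ = (factorThruImageSubobject a ≫ (imageSubobject a).arrow) ≫ b := by
        rw [imageSubobject_arrow_comp]
    _ = _ := Category.assoc _ _ _

include w in
theorem arrow_c_comp_b : (imageSubobject c).arrow ≫ b = 0 := by
  apply (cancel_epi (factorThruImageSubobject c)).1
  rw [← Category.assoc, imageSubobject_arrow_comp, w, comp_zero]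

include w in
theorem ofLE_imToE :
    (imageSubobject c).ofLE (imageSubobject a) hle ≫ imToE a b e m fac = 0 := by
  apply (cancel_mono m).1
  rw [Category.assoc, imToE_m, Subobject.ofLE_arrow_assoc, arrow_c_comp_b c b w, zero_comp]

include hex in
theorem shortExact_subquot :
    (ShortComplex.mk ((imageSubobject c).ofLE (imageSubobject a) hle) (imToE a b e m fac)
      (ofLE_imToE a c b w e m fac hle)).ShortExact := by
  have : Epi (imToE a b e m fac) := epi_of_epi_fac (fact_imToE a b e m fac)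
  refine { exact := ?_ }
  rw [ShortComplex.exact_iff_exact_up_to_refinements]
  intro T x hx
  dsimp at x hx
  have hx' : (x ≫ (imageSubobject a).arrow) ≫ b = 0 := by
    rw [Category.assoc, ← imToE_m a b e m fac, ← Category.assoc, hx, zero_comp]
  obtain ⟨T', π, hπ, y, hy⟩ := hex.exact_up_to_refinements (x ≫ (imageSubobject a).arrow) hx'
  dsimp at y hy
  refine ⟨T', π, hπ, y ≫ factorThruImageSubobject c, ?_⟩
  dsimp
  apply (cancel_mono (imageSubobject a).arrow).1
  simp only [Category.assoc, Subobject.ofLE_arrow, imageSubobject_arrow_comp]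
  exact hy

/-- `im a / im c ≅ E` when `im c = ker b` and `a ≫ b` factors as an epi onto `E` followed by a
mono. -/
noncomputable def subquotIso :
    cokernel ((imageSubobject c).ofLE (imageSubobject a) hle) ≅ E :=
  (cokernelIsCokernel _).coconePointUniqueUpToIso
    (shortExact_subquot a c b w hex e m fac hle).gIsCokernel

end Subquot

theorem imageSubobject_eq_top_of_epi {X Z : C} (f : X ⟶ Z) [Epi f] : imageSubobject f = ⊤ := by
  have : Epi (imageSubobject f).arrow := epi_of_epi_fac (imageSubobject_arrow_comp f)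
  have : IsIso (imageSubobject f).arrow := isIso_of_mono_of_epi _
  exact Subobject.eq_top_of_isIso_arrow _

theorem imageSubobject_eq_bot {X Z : C} (f : X ⟶ Z) (h : f = 0) : imageSubobject f = ⊥ := by
  subst h
  exact imageSubobject_zero

theorem exact_conj {R A A' Q : C} (c₀ : R ⟶ A) (b₀ : A ⟶ Q) (w : c₀ ≫ b₀ = 0)
    (h : (ShortComplex.mk c₀ b₀ w).Exact) (θ : A' ≅ A) :
    (ShortComplex.mk (c₀ ≫ θ.inv) (θ.hom ≫ b₀) (by simp [w])).Exact :=
  ShortComplex.exact_of_iso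
    (ShortComplex.isoMk (Iso.refl _) θ.symm (Iso.refl _) (by simp) (by simp) :
      ShortComplex.mk c₀ b₀ w ≅ ShortComplex.mk (c₀ ≫ θ.inv) (θ.hom ≫ b₀) (by simp [w])) h

theorem hom_eq {ι : Type*} [Preorder ι] {X Z : ComposableArrows ι 1} (α β : X ⟶ Z) : α = β :=
  ComposableArrows.hom_ext₁ (Subsingleton.elim _ _) (Subsingleton.elim _ _)

/-! ### The abutment of a first quadrant spectral object -/

section FirstQuadrant

open Abelian SpectralObject

variable (Y : Abelian.SpectralObject C EInt)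

/-- The abutment `H^n(⊥ ≤ ⊤)`. -/
noncomputable abbrev abut (n : ℤ) : C :=
  (Y.H n).obj (mk₁ (homOfLE (bot_le : (⊥ : EInt) ≤ ⊤)))

/-- `H^n(⊥ ≤ j) ⟶ H^n(⊥ ≤ ⊤)`. -/
noncomputable abbrev toAbut (n : ℤ) (j : EInt) :
    (Y.H n).obj (mk₁ (homOfLE (bot_le : (⊥ : EInt) ≤ j))) ⟶ abut Y n :=
  (Y.H n).map (twoδ₂Toδ₁' ⊥ j ⊤ bot_le le_top)

/-- `H^n(⊥ ≤ ⊤) ⟶ H^n(j ≤ ⊤)`. -/
noncomputable abbrev fromAbut (n : ℤ) (j : EInt) :
    abut Y n ⟶ (Y.H n).obj (mk₁ (homOfLE (le_top : j ≤ ⊤))) :=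
  (Y.H n).map (twoδ₁Toδ₀' ⊥ j ⊤ bot_le le_top)

theorem toAbut_fromAbut (n : ℤ) (j : EInt) : toAbut Y n j ≫ fromAbut Y n j = 0 :=
  Y.zero₂ _ _ _ rfl n

theorem toAbut_fromAbut_exact (n : ℤ) (j : EInt) :
    (ShortComplex.mk (toAbut Y n j) (fromAbut Y n j) (toAbut_fromAbut Y n j)).Exact :=
  Y.exact₂ _ _ _ rfl n

theorem toAbut_fac (n : ℤ) {j j' : EInt} (h : j' ≤ j) :
    (Y.H n).map (twoδ₂Toδ₁' ⊥ j' j bot_le h) ≫ toAbut Y n j = toAbut Y n j' := by
  rw [← Functor.map_comp]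
  congr 1

variable {Hn : ℤ → C} (θ : ∀ n, Hn n ≅ abut Y n)

/-- The index of the `p`-th step of the filtration on `H^n`. -/
abbrev jOf (n p : ℤ) : EInt := ((n - p + 1 : ℤ) : EInt)

/-- The filtration on the abutment: `F^p H^n` is the image of `H^n(⊥ ≤ n - p + 1)`. -/
noncomputable def fil (n p : ℤ) : Subobject (Hn n) :=
  imageSubobject (toAbut Y n (jOf n p) ≫ (θ n).inv)

theorem fil_anti (n : ℤ) : Antitone (fil Y θ n) := by
  intro p p' h
  have hj : jOf n p' ≤ jOf n p := by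
    simp only [jOf, WithBotTop.coe_le_coe]
    omega
  refine SpSeq.FilCx.imageSubobject_le_of_fac
    ((Y.H n).map (twoδ₂Toδ₁' ⊥ (jOf n p') (jOf n p) bot_le hj)) ?_
  rw [← Category.assoc, toAbut_fac]

/-- The graded pieces of the filtration are the `E_∞` terms. -/
noncomputable def grIso (n p : ℤ) (j₁ j₂ : EInt) (h₁ : j₁ = jOf n (p + 1)) (h₂ : j₂ = jOf n p)
    (h : j₁ ≤ j₂) :
    Y.E (homOfLE (bot_le : ⊥ ≤ j₁)) (homOfLE h) (homOfLE (le_top : j₂ ≤ ⊤)) (n - 1) n (n + 1) ≅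
      SpSeq.grPiece (fil Y θ n) (fil_anti Y θ n) p := by
  subst h₁ h₂
  have hex := exact_conj _ _ _ (toAbut_fromAbut_exact Y n (jOf n (p + 1))) (θ n)
  have fac : (toAbut Y n (jOf n p) ≫ (θ n).inv) ≫ ((θ n).hom ≫ fromAbut Y n (jOf n (p + 1))) =
      (Y.toCycles (homOfLE (bot_le : ⊥ ≤ jOf n (p + 1))) (homOfLE h) (homOfLE bot_le) rfl n ≫
        Y.πE (homOfLE (bot_le : ⊥ ≤ jOf n (p + 1))) (homOfLE h)
          (homOfLE (le_top : jOf n p ≤ ⊤)) (n - 1) n (n + 1)) ≫
      (Y.ιE (homOfLE (bot_le : ⊥ ≤ jOf n (p + 1))) (homOfLE h)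
          (homOfLE (le_top : jOf n p ≤ ⊤)) (n - 1) n (n + 1) ≫
        Y.fromOpcycles (homOfLE h) (homOfLE (le_top : jOf n p ≤ ⊤)) (homOfLE le_top) rfl n) := by
    simp only [Category.assoc, Iso.inv_hom_id_assoc, πE_ιE_assoc, toCycles_i_assoc,
      p_fromOpcycles, ← Functor.map_comp]
    congr 1
  exact (subquotIso _ _ _ _ hex _ _ fac (fil_anti Y θ n (by omega : p ≤ p + 1))).symm

variable [Y.IsFirstQuadrant]

theorem isZero_page (r : ℤ) (hr : 2 ≤ r) (pq : ℤ × ℤ) (h : pq.1 < 0 ∨ pq.2 < 0) :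
    IsZero ((Y.E₂SpectralSequence.page r hr).X pq) := by
  rcases h with h | h
  · exact isZero_spectralSequence_page_X_of_isZero_H' _ _ _ hr _
      (Y.isZero₂_of_isFirstQuadrant _ _ _ _ (by simp; lia))
  · exact isZero_spectralSequence_page_X_of_isZero_H' _ _ _ hr _
      (Y.isZero₁_of_isFirstQuadrant _ _ _ (by simp; lia) _)

/-- A page from which the position `pq` is stationary. -/
def rk (pq : ℤ × ℤ) : ℤ := max 2 (max pq.1 (pq.2 + 1) + 1)

theorem two_le_rk (pq : ℤ × ℤ) : 2 ≤ rk pq := le_max_left _ _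

theorem lt_rk₁ (pq : ℤ × ℤ) : pq.1 < rk pq := by
  simp only [rk]
  omega

theorem lt_rk₂ (pq : ℤ × ℤ) : pq.2 + 1 < rk pq := by
  simp only [rk]
  omega

theorem stationaryAt (pq : ℤ × ℤ) :
    SpSeq.StationaryAt Y.E₂SpectralSequence pq (rk pq) := by
  refine ⟨two_le_rk pq, fun r' h₀ hr' => ⟨?_, ?_⟩⟩
  · refine (isZero_page Y r' h₀ _ (Or.inl ?_)).eq_of_src _ _
    have := lt_rk₁ pq
    simp only [Prod.fst_sub]
    omega
  · refine (isZero_page Y r' h₀ _ (Or.inr ?_)).eq_of_tgt _ _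
    have := lt_rk₂ pq
    simp only [Prod.snd_add]
    omega

/-- The object at position `pq` on the page `rk pq` is the `E_∞` term. -/
noncomputable def pageIso (pq : ℤ × ℤ) :
    (Y.E₂SpectralSequence.page (rk pq) (two_le_rk pq)).X pq ≅
      Y.E (homOfLE (bot_le : ⊥ ≤ ((pq.2 : ℤ) : EInt)))
        (homOfLE (show ((pq.2 : ℤ) : EInt) ≤ ((pq.2 + 1 : ℤ) : EInt) by
          simp only [WithBotTop.coe_le_coe]; omega))
        (homOfLE (le_top : ((pq.2 + 1 : ℤ) : EInt) ≤ ⊤))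
        (pq.1 + pq.2 - 1) (pq.1 + pq.2) (pq.1 + pq.2 + 1) := by
  have h₀₁ : ((pq.2 - rk pq + 2 : ℤ) : EInt) ≤ ((pq.2 : ℤ) : EInt) := by
    have := two_le_rk pq
    simp only [WithBotTop.coe_le_coe]; omega
  have h₁₂ : ((pq.2 : ℤ) : EInt) ≤ ((pq.2 + 1 : ℤ) : EInt) := by
    simp only [WithBotTop.coe_le_coe]; omega
  have h₂₃ : ((pq.2 + 1 : ℤ) : EInt) ≤ ((pq.2 + rk pq - 1 : ℤ) : EInt) := by
    have := two_le_rk pq
    simp only [WithBotTop.coe_le_coe]; omega
  have hz₀ : IsZero ((Y.H (pq.1 + pq.2 + 1)).obj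
      (mk₁ (homOfLE (bot_le : ⊥ ≤ ((pq.2 - rk pq + 2 : ℤ) : EInt))))) :=
    Y.isZero₁_of_isFirstQuadrant _ _ _ (by
      have := lt_rk₂ pq
      simp only [WithBotTop.coe_le_coe]; omega) _
  have hz₃ : IsZero ((Y.H (pq.1 + pq.2 - 1)).obj
      (mk₁ (homOfLE (le_top : ((pq.2 + rk pq - 1 : ℤ) : EInt) ≤ ⊤)))) :=
    Y.isZero₂_of_isFirstQuadrant _ _ _ _ (by
      have := lt_rk₁ pq
      simp only [WithBotTop.coe_lt_coe]; omega)
  exact Y.spectralSequencePageXIso coreE₂Cohomological (rk pq) (two_le_rk pq) pq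
      ((pq.2 - rk pq + 2 : ℤ) : EInt) ((pq.2 : ℤ) : EInt) ((pq.2 + 1 : ℤ) : EInt)
      ((pq.2 + rk pq - 1 : ℤ) : EInt) rfl rfl rfl rfl
      (pq.1 + pq.2 - 1) (pq.1 + pq.2) (pq.1 + pq.2 + 1) rfl ≪≫
    (Y.isoMapFourδ₁Toδ₀' ⊥ _ _ _ _ bot_le h₀₁ h₁₂ h₂₃
      (pq.1 + pq.2 - 1) (pq.1 + pq.2) (pq.1 + pq.2 + 1) hz₀).symm ≪≫
    Y.isoMapFourδ₄Toδ₃' ⊥ _ _ _ ⊤ bot_le h₁₂ h₂₃ le_top
      (pq.1 + pq.2 - 1) (pq.1 + pq.2) (pq.1 + pq.2 + 1) hz₃

/-- The abutment data of the first quadrant spectral sequence of `Y`, on any family of objects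
isomorphic to the `H^n(⊥ ≤ ⊤)`. -/
noncomputable def abutment : SpSeq.Abutment Y.E₂SpectralSequence Hn where
  fil n := fil Y θ n
  anti n := fil_anti Y θ n
  rk := rk
  stat := stationaryAt Y
  β pq := pageIso Y pq ≪≫ grIso Y θ (pq.1 + pq.2) pq.1 _ _
    (show ((pq.2 : ℤ) : EInt) = ((pq.1 + pq.2 - (pq.1 + 1) + 1 : ℤ) : EInt) from
      congrArg WithBotTop.coe (by omega))
    (show ((pq.2 + 1 : ℤ) : EInt) = ((pq.1 + pq.2 - pq.1 + 1 : ℤ) : EInt) from
      congrArg WithBotTop.coe (by omega)) _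

theorem abutment_isFinite (n : ℤ) : (abutment Y θ).IsFinite n := by
  refine ⟨⟨0, ?_⟩, ⟨n + 1, ?_⟩⟩
  · show imageSubobject (toAbut Y n (jOf n 0) ≫ (θ n).inv) = ⊤
    have hz : IsZero ((Y.H n).obj (mk₁ (homOfLE (le_top : jOf n 0 ≤ ⊤)))) :=
      Y.isZero₂_of_isFirstQuadrant _ _ _ n (by
        simp only [jOf, WithBotTop.coe_lt_coe]; omega)
    have : Epi (toAbut Y n (jOf n 0)) :=
      (toAbut_fromAbut_exact Y n (jOf n 0)).epi_f (hz.eq_of_tgt _ _)
    exact imageSubobject_eq_top_of_epi _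
  · show imageSubobject (toAbut Y n (jOf n (n + 1)) ≫ (θ n).inv) = ⊥
    have hz : IsZero ((Y.H n).obj (mk₁ (homOfLE (bot_le : ⊥ ≤ jOf n (n + 1))))) :=
      Y.isZero₁_of_isFirstQuadrant _ _ _ (by
        simp only [jOf, WithBotTop.coe_le_coe]; omega) n
    apply imageSubobject_eq_bot
    rw [hz.eq_of_src (toAbut Y n (jOf n (n + 1))) 0, zero_comp]

theorem isBounded : SpSeq.IsBounded Y.E₂SpectralSequence := by
  intro n
  refine (Set.finite_Icc (0 : ℤ) n).subset ?_
  intro p hp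
  by_contra hcon
  apply hp
  apply isZero_page Y 2 le_rfl
  simp only [Set.mem_Icc, not_and_or, not_le] at hcon
  rcases hcon with h | h
  · exact Or.inl h
  · exact Or.inr (by simpa using h)

end FirstQuadrant

end Groth.Agent.H5.SpSeqLib
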